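import Groth.Agent.IsogTateLib.Seq
import Groth.Agent.AVAmpleLib.MulFinite
import Groth.Prelude.Def_AbDual
import Groth.Prelude.Def_AlgGrp

/-!
# The Tate module along an isogeny
-/

set_option autoImplicit false
set_option linter.all false
set_option backward.isDefEq.respectTransparency false
set_option backward.isDefEq.respectTransparency.types false
set_option maxHeartbeats 1000000

universe u

open CategoryTheory CategoryTheory.Limits MonoidalCategory CartesianMonoidalCategory AlgebraicGeometry
open scoped MonObj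

noncomputable section

namespace IsogTateLib

variable {k : Type u} [Field k] {K : Type u} [Field K] (t : Spec (CommRingCat.of K) ⟶ Spec (CommRingCat.of k))

/-- A point with values in an algebraically closed field lifts along a surjective morphism of finite type. -/
theorem exists_lift_point [IsAlgClosed K] {X Y : Over (Spec (CommRingCat.of k))} (u : X ⟶ Y) [LocallyOfFiniteType u.left]
    [Surjective u.left] (y : Over.mk t ⟶ Y) : ∃ x : Over.mk t ⟶ X, x ≫ u = y := by
  let Z := pullback u.left y.left
  let p : Z ⟶ Spec (CommRingCat.of K) := pullback.snd u.left y.left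
  haveI : LocallyOfFiniteType p := inferInstance
  haveI : Surjective p := inferInstance
  haveI : JacobsonSpace Z := LocallyOfFiniteType.jacobsonSpace p
  obtain ⟨z, -⟩ := p.surjective (IsLocalRing.closedPoint K)
  obtain ⟨z', -, hz'⟩ := nonempty_inter_closedPoints (Z := (Set.univ : Set Z)) ⟨z, trivial⟩ isOpen_univ.isLocallyClosed
  let s := pointOfClosedPoint p z' hz'
  have hs : s ≫ p = 𝟙 _ := pointOfClosedPoint_comp p z' hz'
  have e : (s ≫ pullback.fst _ _) ≫ u.left = y.left := by
    rw [Category.assoc, pullback.condition, ← Category.assoc, hs, Category.id_comp]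
  refine ⟨Over.homMk (s ≫ pullback.fst _ _) ?_, Over.OverMorphism.ext e⟩
  change _ ≫ X.hom = t
  rw [← Over.w u, ← Category.assoc, e]
  exact Over.w y

/-- A finite scheme has finitely many points with values in an algebraically closed field. -/
theorem finite_points [IsAlgClosed K] (N : Over (Spec (CommRingCat.of k))) [IsFinite N.hom] :
    Finite (Over.mk t ⟶ N) := by
  let Z := pullback N.hom t
  let p : Z ⟶ Spec (CommRingCat.of K) := pullback.snd N.hom t
  haveI : IsFinite p := inferInstance
  haveI : Subsingleton ↥(Spec (CommRingCat.of K)) := inferInstanceAs (Subsingleton (PrimeSpectrum K))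
  haveI : DiscreteTopology Z := by
    have hd : _root_.IsDiscrete (p ⁻¹' {IsLocalRing.closedPoint K}) := p.isDiscrete_preimage_singleton _
    rw [show p ⁻¹' {IsLocalRing.closedPoint K} = Set.univ from
      Set.eq_univ_of_forall fun x => @Subsingleton.elim (PrimeSpectrum K) _ _ _] at hd
    exact isDiscrete_univ_iff.1 hd
  haveI : CompactSpace Z := QuasiCompact.compactSpace_of_compactSpace p
  haveI : Finite Z := finite_of_compact_of_discrete
  let Φ : (Over.mk t ⟶ N) → (Spec (CommRingCat.of K) ⟶ Z) := fun a =>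
    pullback.lift a.left (𝟙 _) ((Over.w a).trans (Category.id_comp _).symm)
  refine Finite.of_injective (fun a => Φ a (IsLocalRing.closedPoint K)) fun a b hab => ?_
  have h : Φ a = Φ b := ext_of_apply_closedPoint_eq p (pullback.lift_snd _ _ _) (pullback.lift_snd _ _ _) hab
  have h1 := congrArg (· ≫ pullback.fst N.hom t) h
  simp only [Φ, pullback.lift_fst] at h1
  exact Over.OverMorphism.ext h1

theorem tateMap_isogeny (ℓ : ℕ) [Fact ℓ.Prime] [IsAlgClosed K]
    (X Y : Over (Spec (CommRingCat.of k))) [GrpObj X] [IsCommMonObj X] [IsProper X.hom] [GeometricallyIntegral X.hom]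
    [GrpObj Y] [IsCommMonObj Y] (f : X ⟶ Y) [IsMonHom f] [IsFinite f.left] [Surjective f.left]
    (N : Over (Spec (CommRingCat.of k))) [GrpObj N] [IsCommMonObj N] (i : N ⟶ X) [IsMonHom i]
    (hN : AlgGrp.IsKernel i f) :
    Function.Injective (AbDual.tateMapₗ (l := ℓ) (T := Over.mk t) f) ∧
      Nonempty ((AbDual.TateMod Y ℓ (Over.mk t) ⧸ LinearMap.range (AbDual.tateMapₗ (l := ℓ) (T := Over.mk t) f)) ≃+
        Additive ↥(CommGroup.primaryComponent (Over.mk t ⟶ N) ℓ)) := by
  haveI : IsFinite N.hom := by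
    have h : IsFinite (toUnit N).left :=
      MorphismProperty.of_isPullback (P := @IsFinite) (IsPullback.map (Over.forget _) hN) ‹IsFinite f.left›
    rw [show N.hom = (toUnit N).left ≫ 𝟙 _ from (Over.w (toUnit N)).symm]
    infer_instance
  haveI := finite_points t N
  let fP : Additive (Over.mk t ⟶ X) →+ Additive (Over.mk t ⟶ Y) :=
    AddMonoidHom.mk' (fun a => Additive.ofMul (a.toMul ≫ f)) fun a b => congrArg Additive.ofMul (MonObj.mul_comp _ _ f)
  let iP : Additive (Over.mk t ⟶ N) →+ Additive (Over.mk t ⟶ X) :=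
    AddMonoidHom.mk' (fun a => Additive.ofMul (a.toMul ≫ i)) fun a b => congrArg Additive.ofMul (MonObj.mul_comp _ _ i)
  have hiP : Function.Injective iP := fun a b h =>
    congrArg Additive.ofMul (hN.hom_ext (congrArg Additive.toMul h) (toUnit_unique _ _))
  have hexact : ∀ x, fP x = 0 ↔ ∃ r, iP r = x := by
    intro x
    constructor
    · intro h
      have hx : x.toMul ≫ f = toUnit _ ≫ η[Y] := by rw [show x.toMul ≫ f = 1 from congrArg Additive.toMul h, Hom.one_def]
      exact ⟨Additive.ofMul (hN.lift x.toMul (toUnit _) hx), congrArg Additive.ofMul (hN.lift_fst _ _ _)⟩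
    · rintro ⟨r, rfl⟩
      refine congrArg Additive.ofMul ?_
      show (r.toMul ≫ i) ≫ f = 1
      rw [Category.assoc, hN.w, Hom.one_def, ← Category.assoc]
      exact congrArg (· ≫ η[Y]) (toUnit_unique _ _)
  have hf : Function.Surjective fP := fun y => by
    obtain ⟨x, hx⟩ := exists_lift_point t f y.toMul
    exact ⟨Additive.ofMul x, congrArg Additive.ofMul hx⟩
  have hdiv : ∀ x : Additive (Over.mk t ⟶ X), ∃ y, ℓ • y = x := fun x => by
    have hn : (ℓ : ℤ) ≠ 0 := by exact_mod_cast (Fact.out : ℓ.Prime).ne_zero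
    haveI : Surjective (𝟙 X ^ ℓ).left := by rw [← zpow_natCast]; exact AVAmpleLib.surjective_zpow X hn
    haveI : IsFinite (𝟙 X ^ ℓ).left := by rw [← zpow_natCast]; exact AVAmpleLib.isFinite_zpow X hn
    obtain ⟨y, hy⟩ := exists_lift_point t (𝟙 X ^ ℓ) x.toMul
    rw [MonObj.comp_pow, Category.comp_id] at hy
    exact ⟨Additive.ofMul y, congrArg Additive.ofMul hy⟩
  obtain ⟨hinj, δ, hker, hrange⟩ := exists_connecting ℓ (Fact.out : ℓ.Prime) fP iP hiP hexact hf hdiv
    (AbDual.tateSub X ℓ (Over.mk t)) (fun _ => Iff.rfl) (AbDual.tateSub Y ℓ (Over.mk t)) (fun _ => Iff.rfl)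
    (AbDual.tateMap (l := ℓ) (T := Over.mk t) f) (fun _ _ => rfl)
  refine ⟨hinj, ?_⟩
  have hmem : ∀ y, Additive.toMul (δ y) ∈ CommGroup.primaryComponent (Over.mk t ⟶ N) ℓ := fun y => by
    obtain ⟨j, hj⟩ := (hrange _).1 ⟨y, rfl⟩
    exact ⟨j, congrArg Additive.toMul hj⟩
  let δ' : AbDual.TateMod Y ℓ (Over.mk t) →+ Additive ↥(CommGroup.primaryComponent (Over.mk t ⟶ N) ℓ) :=
    AddMonoidHom.mk' (fun y => Additive.ofMul ⟨Additive.toMul (δ y), hmem y⟩) fun a b =>
      congrArg Additive.ofMul (Subtype.ext (congrArg Additive.toMul (map_add δ a b)))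
  have hsurj : Function.Surjective δ' := fun r => by
    obtain ⟨j, hj⟩ := r.toMul.2
    obtain ⟨y, hy⟩ := (hrange (Additive.ofMul r.toMul.1)).2 ⟨j, congrArg Additive.ofMul hj⟩
    exact ⟨y, congrArg Additive.ofMul (Subtype.ext (congrArg Additive.toMul hy))⟩
  have hk : δ'.ker = (AbDual.tateMap (l := ℓ) (T := Over.mk t) f).range := by
    rw [← hker]
    ext y
    rw [AddMonoidHom.mem_ker, AddMonoidHom.mem_ker]
    exact ⟨fun h => congrArg (fun z => Additive.ofMul (Additive.toMul z).1) h,
      fun h => congrArg Additive.ofMul (Subtype.ext (congrArg Additive.toMul h))⟩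
  exact ⟨(QuotientAddGroup.quotientAddEquivOfEq hk.symm).trans
    (QuotientAddGroup.quotientKerEquivOfSurjective δ' hsurj)⟩

end IsogTateLib
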