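import Mathlib

/-!
# Compatible systems of torsion elements along a surjection with finite kernel
-/

set_option autoImplicit false

namespace IsogTateLib

variable {P Q R : Type*} [AddCommGroup P] [AddCommGroup Q] [AddCommGroup R] [Finite R]

theorem nsmul_low {A : Type*} [AddCommGroup A] (l : ℕ) (x : ℕ → A) (hx : ∀ n, l • x (n + 1) = x n) (n j : ℕ) :
    (l ^ j) • x (n + j) = x n := by
  induction j with
  | zero => rw [pow_zero, one_nsmul]; rfl
  | succ j ih => rw [pow_succ, mul_smul, ← Nat.add_assoc, hx, ih]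

/-- Along a surjection with finite kernel out of an `l`-divisible group, the compatible systems of
`l`-power torsion elements form an exact sequence with the `l`-primary part of the kernel. -/
theorem exists_connecting (l : ℕ) (hl : l.Prime) (f : P →+ Q) (ι : R →+ P) (hι : Function.Injective ι)
    (hexact : ∀ x, f x = 0 ↔ ∃ r, ι r = x) (hf : Function.Surjective f) (hdiv : ∀ x : P, ∃ y, l • y = x)
    (TP : AddSubgroup (ℕ → P)) (hTP : ∀ x, x ∈ TP ↔ (∀ n, (l ^ n) • x n = 0) ∧ ∀ n, l • x (n + 1) = x n)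
    (TQ : AddSubgroup (ℕ → Q)) (hTQ : ∀ x, x ∈ TQ ↔ (∀ n, (l ^ n) • x n = 0) ∧ ∀ n, l • x (n + 1) = x n)
    (g : TP →+ TQ) (hg : ∀ x n, (g x : ℕ → Q) n = f ((x : ℕ → P) n)) :
    Function.Injective g ∧ ∃ δ : TQ →+ R, δ.ker = g.range ∧
      ∀ r, r ∈ δ.range ↔ ∃ k, (l ^ k) • r = 0 := by
  classical
  obtain ⟨v, m, hm, hN⟩ := Nat.exists_eq_pow_mul_and_not_dvd (n := Nat.card R) Nat.card_pos.ne' l hl.ne_one
  let e := v + 1
  have hcop : Nat.Coprime m (l ^ e) := (((Nat.Prime.coprime_iff_not_dvd hl).2 hm).symm).pow_right _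
  obtain ⟨c, hc0, hc1⟩ := Nat.chineseRemainder hcop 0 1
  obtain ⟨a, rfl⟩ := (Nat.modEq_zero_iff_dvd.1 hc0)
  have hkill : ∀ r : R, (m * a) • (l ^ e) • r = 0 := fun r => by
    rw [← mul_smul, show m * a * l ^ e = (a * l) * Nat.card R by rw [hN, pow_succ]; ring, mul_smul,
      card_nsmul_eq_zero', smul_zero]
  have hprim : ∀ (r : R) (k : ℕ), (l ^ k) • r = 0 → (l ^ e) • r = 0 := fun r k hk => by
    have h1 : addOrderOf r ∣ l ^ k := addOrderOf_dvd_of_nsmul_eq_zero hk
    have h2 : addOrderOf r ∣ l ^ v * m := hN ▸ addOrderOf_dvd_natCard r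
    have h3 : Nat.Coprime (addOrderOf r) m :=
      Nat.Coprime.coprime_dvd_left h1 ((((Nat.Prime.coprime_iff_not_dvd hl).2 hm)).pow_left _)
    exact addOrderOf_dvd_iff_nsmul_eq_zero.1 ((h3.dvd_of_dvd_mul_right h2).trans (pow_dvd_pow _ (Nat.le_succ v)))
  have hfix : ∀ r : R, (l ^ e) • r = 0 → (m * a) • r = r := fun r hr => by
    have h := hc1.of_dvd (addOrderOf_dvd_of_nsmul_eq_zero hr)
    exact (nsmul_eq_nsmul_iff_modEq.2 h).trans (one_nsmul r)
  -- the connecting homomorphism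
  have hex : ∀ (y : TQ), ∀ x, f x = (y : ℕ → Q) e → ∃ r, ι r = (l ^ e) • x := fun y x hx => by
    rw [← hexact, map_nsmul, hx]; exact ((hTQ _).1 y.2).1 e
  choose xl hxl using fun y : TQ => hf ((y : ℕ → Q) e)
  choose ρ hρ using fun y => hex y (xl y) (hxl y)
  have hwd : ∀ (y : TQ) x r, f x = (y : ℕ → Q) e → ι r = (l ^ e) • x → (m * a) • r = (m * a) • ρ y := by
    intro y x r hx hr
    obtain ⟨s, hs⟩ := (hexact (x - xl y)).1 (by rw [map_sub, hx, hxl, sub_self])
    have h : r - ρ y = (l ^ e) • s := hι (by rw [map_sub, map_nsmul, hr, hρ, hs, smul_sub])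
    have := congrArg ((m * a) • ·) h
    simp only [smul_sub, hkill] at this
    exact sub_eq_zero.1 this
  let δ : TQ →+ R := AddMonoidHom.mk' (fun y => (m * a) • ρ y) fun y z => by
    refine (hwd (y + z) (xl y + xl z) (ρ y + ρ z) ?_ ?_).symm.trans (smul_add _ _ _)
    · rw [map_add, hxl, hxl]; rfl
    · rw [map_add, hρ, hρ, smul_add]
  refine ⟨?_, δ, ?_, ?_⟩
  · refine (injective_iff_map_eq_zero g).2 fun x hx => ?_
    obtain ⟨hx1, hx2⟩ := (hTP _).1 x.2
    have hr : ∀ n, ∃ r, ι r = (x : ℕ → P) n := fun n => by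
      rw [← hexact, ← hg, hx]; rfl
    refine Subtype.ext (funext fun n => ?_)
    obtain ⟨r, hr⟩ := hr (n + e)
    have h0 : (l ^ e) • r = 0 := hprim r (n + e) (hι (by rw [map_nsmul, hr, hx1, map_zero]))
    show (x : ℕ → P) n = 0
    rw [← nsmul_low l _ hx2 n e, ← hr, ← map_nsmul, h0, map_zero]
  · ext y
    rw [AddMonoidHom.mem_ker, AddMonoidHom.mem_range]
    constructor
    · intro hy
      obtain ⟨hy1, hy2⟩ := (hTQ _).1 y.2
      have hlift : ∀ n, ∃ x, f x = (y : ℕ → Q) (n + e) ∧ (l ^ (n + e)) • x = 0 := by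
        intro n
        obtain ⟨x, hx⟩ := hf ((y : ℕ → Q) (n + e))
        obtain ⟨r, hr⟩ := (hexact ((l ^ (n + e)) • x)).1 (by rw [map_nsmul, hx, hy1])
        have h1 : (m * a) • r = 0 := by
          refine (hwd y ((l ^ n) • x) r ?_ ?_).trans hy
          · rw [map_nsmul, hx, Nat.add_comm n e, nsmul_low l _ hy2 e n]
          · rw [hr, ← mul_smul, ← pow_add, Nat.add_comm]
        have hca : Nat.Coprime (m * a) (l ^ (n + e)) := by
          refine Nat.Coprime.pow_right _ ((Nat.Prime.coprime_iff_not_dvd hl).2 fun hd => ?_).symm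
          have h2 : m * a ≡ 1 [MOD l] := hc1.of_dvd (dvd_pow_self l (Nat.succ_ne_zero v))
          have := (Nat.modEq_zero_iff_dvd.2 hd).symm.trans h2
          rw [Nat.ModEq, Nat.zero_mod, Nat.one_mod_eq_one.2 hl.ne_one] at this
          exact zero_ne_one this
        obtain ⟨u, w, huw⟩ := (Nat.isCoprime_iff_coprime.2 hca : IsCoprime ((m * a : ℕ) : ℤ) ((l ^ (n + e) : ℕ) : ℤ))
        have h3 : r = (l ^ (n + e)) • (w • r) := by
          conv_lhs => rw [← one_zsmul r, ← huw, add_zsmul, mul_zsmul, natCast_zsmul, h1, smul_zero, zero_add, mul_zsmul', natCast_zsmul]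
        refine ⟨x - ι (w • r), ?_, ?_⟩
        · rw [map_sub, hx, (hexact _).2 ⟨_, rfl⟩, sub_zero]
        · rw [smul_sub, ← map_nsmul, ← h3, hr, sub_self]
      choose x hx1 hx2 using hlift
      have hz : (fun n => (l ^ e) • x n) ∈ TP := by
        refine (hTP _).2 ⟨fun n => by beta_reduce; rw [← mul_smul, ← pow_add]; exact hx2 n, fun n => ?_⟩
        beta_reduce
        obtain ⟨r, hr⟩ := (hexact (l • x (n + 1) - x n)).1 (by
          rw [map_sub, map_nsmul, hx1, hx1, Nat.add_right_comm, hy2, sub_self])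
        have h0 : (l ^ e) • r = 0 := hprim r (n + e) (hι (by
          rw [map_nsmul, hr, map_zero, smul_sub, hx2, sub_zero, ← mul_smul, ← pow_succ, Nat.add_right_comm]
          exact hx2 (n + 1)))
        have h := congrArg ι h0
        rw [map_nsmul, hr, smul_sub, map_zero, sub_eq_zero, smul_comm] at h
        exact h
      refine ⟨⟨_, hz⟩, Subtype.ext (funext fun n => ?_)⟩
      rw [hg]
      show f ((l ^ e) • x n) = _
      rw [map_nsmul, hx1, nsmul_low l _ hy2]
    · rintro ⟨x, rfl⟩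
      refine (hwd (g x) ((x : ℕ → P) e) 0 (hg x e).symm ?_).symm.trans (smul_zero _)
      rw [map_zero, ((hTP _).1 x.2).1 e]
  · intro r
    constructor
    · rintro ⟨y, rfl⟩
      refine ⟨e, ?_⟩
      show (l ^ e) • (m * a) • ρ y = 0
      rw [smul_comm, hkill]
    · rintro ⟨k, hk⟩
      have hr : (l ^ e) • r = 0 := hprim r k hk
      choose half hhalf using hdiv
      let x : ℕ → P := fun n => Nat.rec (ι r) (fun _ p => half p) n
      have hx : ∀ n, l • x (n + 1) = x n := fun n => hhalf _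
      have hxn : ∀ n, (l ^ n) • x n = ι r := fun n => by
        have := nsmul_low l x hx 0 n
        rwa [Nat.zero_add] at this
      have hy : (fun n => f (x n)) ∈ TQ := (hTQ _).2 ⟨fun n => by
        beta_reduce; rw [← map_nsmul, hxn]; exact (hexact _).2 ⟨r, rfl⟩, fun n => by
        beta_reduce; rw [← map_nsmul, hx]⟩
      exact ⟨⟨_, hy⟩, ((hwd ⟨_, hy⟩ (x e) r rfl (hxn e).symm).symm).trans (hfix r hr)⟩

end IsogTateLib
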